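import Cfsg.Agent.H7.FC.Center

/-!
# S2452, `F₄(q)`, `q` odd: pairs of long root groups of the Levi subgroup `C₃` (helper7)

`red` : for `k ∈ MM K` there is `p ∈ MM K` with `p X₄₁ p⁻¹ ≤ X₄₁` and `p (k X₄₁ k⁻¹) p⁻¹ ≤ X_s`, `s = 41, 30` or `6`
(`41 = - 6` is the highest root of `C₃`, `30` is orthogonal to it).
-/

set_option autoImplicit false
set_option linter.unusedSectionVars false

namespace Cfsg.Agent.H7.FR

open CoxeterSystem Cfsg.Agent.ChevalleyStructure.CoxeterGeom Cfsg.Agent.Tits.Roots Cfsg.Agent.Tits.Core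
  Cfsg.Agent.Tits.Exchange Cfsg.Agent.Nodes.Reps Cfsg.Agent.Nodes.BNOf Cfsg.Agent.Nodes.StabComb
  Cfsg.Agent.Nodes.Bruhat Cfsg.Agent.Nodes.OppDec Cfsg.Agent.Nodes.LeviDec Cfsg.Agent.Nodes.NormX
  Cfsg.Agent.Nodes.Coroot Cfsg.Agent.Nodes.RGDChev Cfsg.Agent.KFacts.RgdPar Cfsg.Agent.KFacts.RgdTI
  Cfsg.Agent.KFacts.RgdCent Cfsg.Agent.KFacts.RgdChevCoord Cfsg.Agent.Nodes.ChevCls
  Cfsg.Agent.OddHalf.NI.ModelChev Cfsg.Agent.H225.PPow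
open Cfsg.Lie Cfsg.Agent.ChevalleyStructure Cfsg.Agent.ChevalleyStructure.Elts
  Cfsg.Agent.ChevalleyStructure.RootVec Cfsg.Agent.ChevalleyStructure.NPerm
  Cfsg.Agent.ChevalleyStructure.CoxeterGeomTypes
open Cfsg.Agent.H701.F43.Cent (hF cF finW nroots J3 MM)
open Cfsg.Agent.FixBN.FieldRGD (uu vv dd ww)
open Cfsg.Agent.H7.FC

universe u

/-- the long roots of `C₃` -/
def L6 : List ℕ := [41, 6, 30, 25, 22, 17]

theorem tabL : ∀ i : Fin 4, i ≠ 3 → ∀ r ∈ L6, chevF4.reflectRoot i r ∈ L6 := by decide +kernel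

theorem ltL : ∀ r ∈ L6, r < chevF4.nroots := by decide +kernel

theorem pos_M_tab : ∀ r < chevF4.nroots, (∀ i : Fin 4, 0 ≤ vec chevF4 4 r i) → vec chevF4 4 r 3 = 0 →
    r = 41 ∨ (41 ≠ r ∧ 41 ≠ chevF4.neg r ∧ chevF4.commTerms r 41 = []) := by decide +kernel

theorem word_mem (ω : List (Fin 4)) (hω : ∀ i ∈ ω, i ≠ 3) : wact chevF4 ω 41 ∈ L6 := by
  induction ω with
  | nil => decide
  | cons i ω ih => exact tabL i (hω i (by simp)) _ (ih fun j hj => hω j (by simp [hj]))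

/-- the image of the root `41` under `W_J` -/
theorem rep_mem {w : CoxeterMatrix.F₄.Group} (hw : w ∈ WJ cF J3) :
    ∃ r ∈ L6, rep cF hF.isCartan w (vec chevF4 4 41) = vec chevF4 4 r := by
  obtain ⟨ω, hω, rfl⟩ := exists_word_of_mem_WJ cF hw
  exact ⟨_, word_mem ω hω, rep_word hF cF ω (by rw [nroots]; norm_num)⟩

variable {K : Type u} [Field K] [Finite K]

section

variable (p : ℕ) [Fact p.Prime] [CharP K p]

include p in
/-- `U ∩ M` centralises `X₄₁` -/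
theorem cen41 {u v : ↥(chevF4.group K)} (hu : u ∈ UJ cF hF.isCartan (XX chevF4 4 K) J3)
    (hv : v ∈ XX chevF4 4 K (vec chevF4 4 41)) : u * v = v * u := by
  have h41 : 41 < chevF4.nroots := by rw [nroots]; norm_num
  have h1 : UJ cF hF.isCartan (XX chevF4 4 K) J3 ≤ Subgroup.centralizer {v} := by
    refine RGD.Sup_le fun x hx => ?_
    obtain ⟨hx1, hx2, hx3⟩ := hx
    obtain ⟨r, hr, rfl⟩ := (isRoot_iff hF cF x).1 hx1
    intro y hy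
    rw [Subgroup.mem_centralizer_singleton_iff]
    obtain ⟨c, hc⟩ := (mem_XX p hr).1 hy
    obtain ⟨d, hd⟩ := (mem_XX p h41).1 hv
    apply Subtype.ext
    rw [Subgroup.coe_mul, Subgroup.coe_mul, hc, hd]
    rcases pos_M_tab r hr hx2 (hx3 3 fun h => h rfl) with h | ⟨h3, h4, h5⟩
    · subst h
      rw [XG_add, XG_add, add_comm]
    · exact (comm_XG hr h41 h3 h4 h5 c d).symm.eq
  exact Subgroup.mem_centralizer_singleton_iff.1 (h1 hu)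

include p in
theorem mem_BJ {b : ↥(chevF4.group K)} (hb : b ∈ BJ cF hF.isCartan (TT chevF4 K) (XX chevF4 4 K) J3) :
    ∃ u ∈ UJ cF hF.isCartan (XX chevF4 4 K) J3, ∃ t ∈ TT chevF4 K, b = u * t := by
  have hT : TT chevF4 K ≤ Subgroup.normalizer (UJ cF hF.isCartan (XX chevF4 4 K) J3 : Set ↥(chevF4.group K)) :=
    (rgd (K := K) hF cF p).T_le_normalizer fun _ hx => hx.1
  have h1 : b ∈ ((BJ cF hF.isCartan (TT chevF4 K) (XX chevF4 4 K) J3 : Subgroup _) : Set ↥(chevF4.group K)) := hb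
  unfold BJ at h1
  rw [Subgroup.coe_mul_of_left_le_normalizer_right _ _ hT, Set.mem_mul] at h1
  obtain ⟨t, ht, u, hu, rfl⟩ := h1
  exact ⟨t * u * t⁻¹, (Subgroup.mem_normalizer_iff.1 (hT ht) u).1 hu, t, ht, by group⟩

include p in
theorem tor_XX {t : ↥(chevF4.group K)} (ht : t ∈ TT chevF4 K) {r : ℕ} (hr : r < chevF4.nroots)
    {v : ↥(chevF4.group K)} (hv : v ∈ XX chevF4 4 K (vec chevF4 4 r)) :
    t * v * t⁻¹ ∈ XX chevF4 4 K (vec chevF4 4 r) := by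
  have h1 : cj t (XX chevF4 4 K (vec chevF4 4 r)) = XX chevF4 4 K (vec chevF4 4 r) :=
    (rgd (K := K) hF cF p).tor _ ((isRoot_iff hF cF _).2 ⟨r, hr, rfl⟩) t ht
  exact h1.le ⟨v, hv, rfl⟩

/-- `n_i ∈ M` -/
theorem nc_mem (i : Fin 4) (hi : i ≠ 3) : nc hF K i ∈ MM K := by
  have h1 : nc hF K i ∈ XX chevF4 4 K (sr i) ⊔ XX chevF4 4 K (-sr i) := by
    rw [← range_sl hF i, ← sl_ww hF i]
    exact ⟨_, rfl⟩
  have h5 : sr i ∈ RootsJ cF hF.isCartan J3 := by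
    rw [Cfsg.Agent.H701.F43.Cent.mem_RootsJ]
    exact ⟨isRoot_sr _ _ i, sr_ne (Ne.symm hi)⟩
  have h6 : -sr i ∈ RootsJ cF hF.isCartan J3 := by
    rw [Cfsg.Agent.H701.F43.Cent.mem_RootsJ] at h5 ⊢
    exact ⟨h5.1.neg, by rw [Pi.neg_apply, h5.2, neg_zero]⟩
  exact (sup_le (RGD.le_Sup h5) (RGD.le_Sup h6)) h1

include p in
/-- representatives of words in `M` -/
theorem exists_rp (ω : List (Fin 4)) (hω : ∀ i ∈ ω, i ≠ 3) : ∃ m ∈ MM K, ∀ r < chevF4.nroots,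
    ∀ v ∈ XX chevF4 4 K (vec chevF4 4 r), m * v * m⁻¹ ∈ XX chevF4 4 K (vec chevF4 4 (wact chevF4 ω r)) := by
  have R := rgd (K := K) hF cF p
  have key : ∃ m ∈ MM K, Rp cF R.nsys (cF.wordProd ω) m := by
    induction ω with
    | nil => exact ⟨1, one_mem _, by rw [wordProd_nil]; exact rp_one⟩
    | cons i ω ih =>
      obtain ⟨m, hm, hrp⟩ := ih fun j hj => hω j (by simp [hj])
      exact ⟨nc hF K i * m, mul_mem (nc_mem i (hω i (by simp))) hm, by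
        rw [wordProd_cons]; exact (rp_simple cF R.nsys i).mul hrp⟩
  obtain ⟨m, hm, hrp⟩ := key
  refine ⟨m, hm, fun r hr v hv => ?_⟩
  have h1 : cj m (XX chevF4 4 K (vec chevF4 4 r)) =
      XX chevF4 4 K (rep cF hF.isCartan (cF.wordProd ω) (vec chevF4 4 r)) :=
    R.conj_rp hrp ((isRoot_iff hF cF _).2 ⟨r, hr, rfl⟩)
  have h2 : m * v * m⁻¹ ∈ XX chevF4 4 K (rep cF hF.isCartan (cF.wordProd ω) (vec chevF4 4 r)) :=
    h1.le ⟨v, hv, rfl⟩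
  rw [rep_word hF cF ω hr] at h2
  exact h2

end

/-- a word for each long root -/
def wd (r : ℕ) : List (Fin 4) := if r = 25 then [1] else if r = 22 then [1, 2] else if r = 17 then [1, 2, 1] else []

theorem wd_tab : ∀ r ∈ L6, (∀ i ∈ wd r, i ≠ 3) ∧ wact chevF4 (wd r) 41 = 41 ∧ wact chevF4 (wd r) r ∈ [41, 30, 6] := by
  decide +kernel

/-- **Pairs of long root groups of `C₃`.** -/
theorem red {k : ↥(chevF4.group K)} (hk : k ∈ MM K) : ∃ q ∈ MM K, ∃ s ∈ [41, 30, 6],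
    (∀ v ∈ XX chevF4 4 K (vec chevF4 4 41), q * v * q⁻¹ ∈ XX chevF4 4 K (vec chevF4 4 41)) ∧
    ∀ v ∈ XX chevF4 4 K (vec chevF4 4 41), q * (k * v * k⁻¹) * q⁻¹ ∈ XX chevF4 4 K (vec chevF4 4 s) := by
  obtain ⟨p, hpc⟩ := CharP.exists K
  have : Fact p.Prime := ⟨CharP.char_is_prime K p⟩
  have R := rgd (K := K) hF cF p
  have h41 : 41 < chevF4.nroots := by rw [nroots]; norm_num
  have hkL : k ∈ LJ cF hF.isCartan (TT chevF4 K) (XX chevF4 4 K) J3 :=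
    (le_sup_right : MM K ≤ LJ cF hF.isCartan (TT chevF4 K) (XX chevF4 4 K) J3) hk
  obtain ⟨w, hw, b₁, hb₁, n, hn, b₂, hb₂, rfl⟩ := exists_cellJ R hkL
  obtain ⟨u₁, hu₁, t₁, ht₁, rfl⟩ := mem_BJ p hb₁
  obtain ⟨u₂, hu₂, t₂, ht₂, rfl⟩ := mem_BJ p hb₂
  obtain ⟨r, hr, hwr⟩ := rep_mem hw
  obtain ⟨m, hm, hmX⟩ := exists_rp (K := K) p (wd r) (wd_tab r hr).1
  have hUM : UJ cF hF.isCartan (XX chevF4 4 K) J3 ≤ MM K := RGD.Sup_mono (PosJ_subset _)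
  refine ⟨m * u₁⁻¹, mul_mem hm (inv_mem (hUM hu₁)), _, (wd_tab r hr).2.2, fun v hv => ?_, fun v hv => ?_⟩
  · have h1 := hmX 41 h41 v hv
    rw [(wd_tab r hr).2.1] at h1
    have h2 : m * u₁⁻¹ * v * (m * u₁⁻¹)⁻¹ = m * v * m⁻¹ := by
      have h3 := cen41 p (inv_mem hu₁) hv
      calc m * u₁⁻¹ * v * (m * u₁⁻¹)⁻¹ = m * (u₁⁻¹ * v) * u₁ * m⁻¹ := by group
        _ = _ := by rw [h3]; group
    rw [h2]
    exact h1
  · have h1 : u₂ * t₂ * v * (u₂ * t₂)⁻¹ ∈ XX chevF4 4 K (vec chevF4 4 41) := by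
      have h2 := tor_XX p ht₂ h41 hv
      have h3 := cen41 p hu₂ h2
      have h4 : u₂ * t₂ * v * (u₂ * t₂)⁻¹ = t₂ * v * t₂⁻¹ := by
        calc u₂ * t₂ * v * (u₂ * t₂)⁻¹ = u₂ * (t₂ * v * t₂⁻¹) * u₂⁻¹ := by group
          _ = _ := by rw [h3]; group
      rw [h4]
      exact h2
    have h5 : n * (u₂ * t₂ * v * (u₂ * t₂)⁻¹) * n⁻¹ ∈ XX chevF4 4 K (vec chevF4 4 r) := by
      have h5a : cj n (XX chevF4 4 K (vec chevF4 4 41)) = XX chevF4 4 K (rep cF hF.isCartan w (vec chevF4 4 41)) :=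
        R.conj_rp hn ((isRoot_iff hF cF _).2 ⟨41, h41, rfl⟩)
      have h5b : n * (u₂ * t₂ * v * (u₂ * t₂)⁻¹) * n⁻¹ ∈ XX chevF4 4 K (rep cF hF.isCartan w (vec chevF4 4 41)) :=
        h5a.le ⟨_, h1, rfl⟩
      rw [hwr] at h5b
      exact h5b
    have h6 := tor_XX p ht₁ (ltL r hr) h5
    have h7 := hmX r (ltL r hr) _ h6
    have h8 : m * u₁⁻¹ * (u₁ * t₁ * n * (u₂ * t₂) * v * (u₁ * t₁ * n * (u₂ * t₂))⁻¹) * (m * u₁⁻¹)⁻¹ =
        m * (t₁ * (n * (u₂ * t₂ * v * (u₂ * t₂)⁻¹) * n⁻¹) * t₁⁻¹) * m⁻¹ := by group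
    rw [h8]
    exact h7

/-- the same with coordinates -/
theorem red_xc {k : ↥(chevF4.group K)} (hk : k ∈ MM K) (a b : K) : ∃ q ∈ MM K, ∃ s ∈ [41, 30, 6], ∃ a' b' : K,
    q * xc hF (vec chevF4 4 41) a * q⁻¹ = xc hF (vec chevF4 4 41) a' ∧
    q * (k * xc hF (vec chevF4 4 41) b * k⁻¹) * q⁻¹ = xc hF (vec chevF4 4 s) b' := by
  obtain ⟨p, hpc⟩ := CharP.exists K
  have : Fact p.Prime := ⟨CharP.char_is_prime K p⟩
  have h41 : 41 < chevF4.nroots := by rw [nroots]; norm_num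
  have hlt : ∀ s ∈ [41, 30, 6], s < chevF4.nroots := by decide +kernel
  obtain ⟨q, hq, s, hs, h1, h2⟩ := red hk
  obtain ⟨a', ha'⟩ := (mem_XX p h41).1 (h1 _ ((mem_XX p h41).2 ⟨a, coe_xc hF h41 a⟩))
  obtain ⟨b', hb'⟩ := (mem_XX p (hlt s hs)).1 (h2 _ ((mem_XX p h41).2 ⟨b, coe_xc hF h41 b⟩))
  refine ⟨q, hq, s, hs, a', b', Subtype.ext ?_, Subtype.ext ?_⟩
  · rw [ha', coe_xc hF h41]
  · rw [hb', coe_xc hF (hlt s hs)]

end Cfsg.Agent.H7.FR
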