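import Cfsg.Agent.H7.FR.Red
import Cfsg.Agent.H296.FR.XTwo

/-!
# Products of two conjugates of long root elements of `C₃` on the extraspecial radical of `F₄(q)` (S2452, helper7)

`card_two` : `m = x₁ x₂ ≠ 1`, `x₁, x₂` in `M`-conjugates of the root group of the simple root `2`:
`q⁵ |{x ∈ V : [x, m] ∈ X_θ}| ≤ q¹⁵`.
-/

set_option autoImplicit false
set_option linter.unusedSectionVars false

namespace Cfsg.Agent.H7.FR

open CoxeterSystem Cfsg.Agent.ChevalleyStructure.CoxeterGeom Cfsg.Agent.Tits.Roots Cfsg.Agent.Tits.Core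
  Cfsg.Agent.Tits.Exchange Cfsg.Agent.Nodes.Reps Cfsg.Agent.Nodes.BNOf Cfsg.Agent.Nodes.StabComb
  Cfsg.Agent.Nodes.Bruhat Cfsg.Agent.Nodes.OppDec Cfsg.Agent.Nodes.LeviDec Cfsg.Agent.Nodes.NormX
  Cfsg.Agent.Nodes.Coroot Cfsg.Agent.Nodes.RGDChev Cfsg.Agent.KFacts.RgdPar Cfsg.Agent.KFacts.RgdTI
  Cfsg.Agent.KFacts.RgdCent Cfsg.Agent.KFacts.RgdChevCoord Cfsg.Agent.Nodes.ChevCls
  Cfsg.Agent.OddHalf.NI.ModelChev Cfsg.Agent.H225.PPow
open Cfsg.Lie Cfsg.Agent.ChevalleyStructure Cfsg.Agent.ChevalleyStructure.Elts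
  Cfsg.Agent.ChevalleyStructure.RootVec Cfsg.Agent.ChevalleyStructure.NPerm
  Cfsg.Agent.ChevalleyStructure.CoxeterGeomTypes
open Cfsg.Agent.H701.F43.Cent (hF cF finW nroots J3 MM VV)
open Cfsg.Agent.H296.FR.X (cw card_pair card_conj)
open Cfsg.Agent.H797.FQ (e)

universe u

theorem simple2 : chevF4.simple (2 : Fin 4) < chevF4.nroots := by decide +kernel

theorem word41 : wact chevF4 ([0, 1] : List (Fin 4)) (chevF4.simple (2 : Fin 4)) = 41 := by decide +kernel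

theorem word_ne : ∀ i ∈ ([0, 1] : List (Fin 4)), i ≠ 3 := by decide

variable {K : Type u} [Field K] [Finite K]

/-- from the simple root `2` to the root `41` -/
theorem exists_c41 : ∃ m ∈ MM K, ∀ v ∈ XX chevF4 4 K (sr 2), m * v * m⁻¹ ∈ XX chevF4 4 K (vec chevF4 4 41) := by
  obtain ⟨p, hpc⟩ := CharP.exists K
  have : Fact p.Prime := ⟨CharP.char_is_prime K p⟩
  obtain ⟨m, hm, h⟩ := exists_rp (K := K) p [0, 1] word_ne
  refine ⟨m, hm, fun v hv => ?_⟩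
  have h1 := h (chevF4.simple (2 : Fin 4)) simple2 v (by
    rw [show vec chevF4 4 (chevF4.simple (2 : Fin 4)) = sr 2 from vec_simple hF 2]
    exact hv)
  rw [word41] at h1
  exact h1

theorem e_eq_xc {r : ℕ} (hr : r < chevF4.nroots) (t : K) : e r t = xc hF (vec chevF4 4 r) t := by
  apply Subtype.ext
  rw [coe_xc hF hr]
  rfl

/-- **the pairs** -/
theorem card_two {a b y₁ y₂ : ↥(chevF4.group K)} (ha : a ∈ MM K) (hb : b ∈ MM K)
    (hy₁ : y₁ ∈ XX chevF4 4 K (sr 2)) (hy₂ : y₂ ∈ XX chevF4 4 K (sr 2))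
    (hne : a * y₁ * a⁻¹ * (b * y₂ * b⁻¹) ≠ 1) :
    Nat.card K ^ 5 * Nat.card {x : ↥(VV K) // (x : ↥(chevF4.group K)) * (a * y₁ * a⁻¹ * (b * y₂ * b⁻¹)) *
      (x : ↥(chevF4.group K))⁻¹ * (a * y₁ * a⁻¹ * (b * y₂ * b⁻¹))⁻¹ ∈ XX chevF4 4 K (vec chevF4 4 47)} ≤
      Nat.card K ^ 15 := by
  obtain ⟨p, hpc⟩ := CharP.exists K
  have : Fact p.Prime := ⟨CharP.char_is_prime K p⟩
  have h41 : 41 < chevF4.nroots := by rw [nroots]; norm_num
  have hlt : ∀ s ∈ [41, 30, 6], s < chevF4.nroots := by decide +kernel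
  obtain ⟨n, hn, hnX⟩ := exists_c41 (K := K)
  obtain ⟨c₁, hc₁⟩ := (mem_XX_vec hF h41).1 (hnX _ hy₁)
  obtain ⟨c₂, hc₂⟩ := (mem_XX_vec hF h41).1 (hnX _ hy₂)
  have hk : n * a⁻¹ * b * n⁻¹ ∈ MM K := mul_mem (mul_mem (mul_mem hn (inv_mem ha)) hb) (inv_mem hn)
  obtain ⟨q, hq, s, hs, a', b', h1, h2⟩ := red_xc hk c₁ c₂
  have hP : q * (n * a⁻¹) ∈ MM K := mul_mem hq (mul_mem hn (inv_mem ha))
  have e1 : xc hF (vec chevF4 4 41) c₁ = n * y₁ * n⁻¹ := by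
    rw [← e_eq_xc h41]
    exact hc₁
  have e2 : xc hF (vec chevF4 4 41) c₂ = n * y₂ * n⁻¹ := by
    rw [← e_eq_xc h41]
    exact hc₂
  have h3 : q * (n * a⁻¹) * (a * y₁ * a⁻¹ * (b * y₂ * b⁻¹)) * (q * (n * a⁻¹))⁻¹ = e 41 a' * e s b' := by
    rw [e_eq_xc h41, e_eq_xc (hlt s hs), ← h1, ← h2, e1, e2]
    group
  have h4 : e 41 a' * e s b' ≠ 1 := by
    intro h
    rw [← h3] at h
    apply hne
    have h5 := mul_inv_eq_one.1 h
    exact mul_eq_left.1 h5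
  have h5 := card_pair hs h4
  rw [← h3, card_conj hP] at h5
  exact h5

end Cfsg.Agent.H7.FR
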